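import Groth.Agent.BertiniSec.Affine
import Groth.Agent.ZeroSchX.Basic
import Groth.Agent.InvX.Tensor
import Groth.Agent.QCoh.Stalk
import Groth.Prelude.Def_Formal
import Mathlib.AlgebraicGeometry.Morphisms.Smooth

/-!
# Charts for zero schemes of combinations of sections
-/

set_option backward.isDefEq.respectTransparency false
set_option backward.isDefEq.respectTransparency.types false
set_option linter.style.haveILetI false

universe u

open CategoryTheory CategoryTheory.Limits AlgebraicGeometry TopologicalSpace Opposite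

namespace Groth.Agent.BertiniSec

open Groth.Agent

variable {k : Type u} [Field k] {X : Scheme.{u}} [X.Over (Spec (CommRingCat.of k))]

variable (k) in
/-- The constants on an open set. -/
noncomputable def cst (U : X.Opens) : k →+* Γ(X, U) :=
  (X.presheaf.map (homOfLE (le_top : U ≤ ⊤)).op).hom.comp (Coh.toGlobal (X ↘ Spec (CommRingCat.of k)))

theorem fromSpec_comp (U : X.Opens) (hU : IsAffineOpen U) :
    hU.fromSpec ≫ (X ↘ Spec (CommRingCat.of k)) = Spec.map (CommRingCat.ofHom (cst k U)) := by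
  have h : (X ↘ Spec (CommRingCat.of k)) =
      X.toSpecΓ ≫ Spec.map ((Scheme.ΓSpecIso (CommRingCat.of k)).inv ≫ (X ↘ Spec (CommRingCat.of k)).appTop) := by
    rw [Spec.map_comp, ← Scheme.toSpecΓ_naturality_assoc, toSpecΓ_SpecMap_ΓSpecIso_inv, Category.comp_id]
  rw [h, IsAffineOpen.fromSpec_toSpecΓ_assoc hU, ← Spec.map_comp]
  rfl

theorem res_cst {U V : X.Opens} (h : V ≤ U) (c : k) :
    X.presheaf.map (homOfLE h).op (cst k U c) = cst k V c := by
  show X.presheaf.map (homOfLE h).op (X.presheaf.map (homOfLE (le_top : U ≤ ⊤)).op _) = _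
  rw [← ConcreteCategory.comp_apply, ← Functor.map_comp]
  rfl

theorem sv_smulMod {L : X.Modules} (c : k) (s : Coh.structureModule X ⟶ L) (U : X.Opens) :
    ZeroSchX.sv (Formal.smulMod k (Coh.structureModule X) c ≫ s) U = cst k U c • ZeroSchX.sv s U := by
  show s.app U (cst k U c • (show Γ(Coh.structureModule X, U) from (1 : Γ(X, U)))) = _
  rw [Scheme.Modules.Hom.app_smul]
  rfl

theorem sv_add {L : X.Modules} (s t : Coh.structureModule X ⟶ L) (U : X.Opens) :
    ZeroSchX.sv (s + t) U = ZeroSchX.sv s U + ZeroSchX.sv t U := rfl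

theorem sv_sum {L : X.Modules} {ι : Type*} [Fintype ι] (c : ι → k) (s : ι → (Coh.structureModule X ⟶ L))
    (U : X.Opens) :
    ZeroSchX.sv (∑ i, Formal.smulMod k (Coh.structureModule X) (c i) ≫ s i) U =
      ∑ i, cst k U (c i) • ZeroSchX.sv (s i) U := by
  classical
  have : ∀ t : Finset ι, ZeroSchX.sv (∑ i ∈ t, Formal.smulMod k (Coh.structureModule X) (c i) ≫ s i) U =
      ∑ i ∈ t, cst k U (c i) • ZeroSchX.sv (s i) U := fun t => by
    induction t using Finset.induction with
    | empty => rfl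
    | insert a t ha ih => rw [Finset.sum_insert ha, Finset.sum_insert ha, sv_add, sv_smulMod, ih]
  exact this Finset.univ

theorem isInvertible_of_rank_one {M : X.Modules} (h : FlatMod.IsFinLocFreeOfRank 1 M) :
    PicF.IsInvertible M := fun x =>
  let ⟨U, hx, ⟨e⟩⟩ := h x
  ⟨U, hx, ⟨e ≪≫ coproductUniqueIso _⟩⟩

omit [X.Over (Spec (CommRingCat.of k))] in
/-- A frame freely generates the stalk. -/
theorem bijective_germ_smul_of_frame {X : Scheme.{u}} {M : X.Modules} {U : X.Opens} {e : Γ(M, U)}
    (he : InvX.IsFrame e) {x : X} (hx : x ∈ U) :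
    Function.Bijective fun r : X.presheaf.stalk x => r • M.presheaf.germ U x hx e := by
  have key : ∀ (W : X.Opens) (hW : W ≤ U) (hxW : x ∈ W) (c : Γ(X, W)),
      X.presheaf.germ W x hxW c • M.presheaf.germ U x hx e =
        M.presheaf.germ W x hxW (c • AModX.res M hW e) := fun W hW hxW c => by
    rw [QCoh.germ_smul']
    congr 1
    exact (TopCat.Presheaf.germ_res_apply (C := Ab) M.presheaf (homOfLE hW) x hxW e).symm
  constructor
  · intro r r' h
    obtain ⟨W₁, hxW₁, c₁, rfl⟩ := X.presheaf.exists_germ_eq r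
    obtain ⟨W₂, hxW₂, c₂, rfl⟩ := X.presheaf.exists_germ_eq r'
    let W : X.Opens := W₁ ⊓ W₂ ⊓ U
    have hxW : x ∈ W := ⟨⟨hxW₁, hxW₂⟩, hx⟩
    rw [← X.presheaf.germ_res_apply (homOfLE (inf_le_left.trans inf_le_left : W ≤ W₁)) x hxW,
      ← X.presheaf.germ_res_apply (homOfLE (inf_le_left.trans inf_le_right : W ≤ W₂)) x hxW] at h ⊢
    beta_reduce at h
    rw [key W inf_le_right hxW, key W inf_le_right hxW] at h
    obtain ⟨W', hxW', k, k', hk⟩ := TopCat.Presheaf.germ_eq (C := Ab) M.presheaf x hxW hxW _ _ h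
    change AModX.res M k.le _ = AModX.res M k'.le _ at hk
    rw [AModX.res_smul, AModX.res_smul, AModX.res_res] at hk
    rw [← X.presheaf.germ_res_apply k x hxW', ← X.presheaf.germ_res_apply k x hxW']
    exact congrArg _ ((he W' (k.le.trans inf_le_right)).1 hk)
  · intro m
    obtain ⟨W₀, hxW₀, s, rfl⟩ := TopCat.Presheaf.exists_germ_eq (C := Ab) M.presheaf m
    let W : X.Opens := W₀ ⊓ U
    have hxW : x ∈ W := ⟨hxW₀, hx⟩
    obtain ⟨c, hc⟩ := he.exists_coord (inf_le_right : W ≤ U) (AModX.res M (inf_le_left : W ≤ W₀) s)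
    refine ⟨X.presheaf.germ W x hxW c, ?_⟩
    beta_reduce
    rw [key W inf_le_right hxW, ← hc]
    exact TopCat.Presheaf.germ_res_apply (C := Ab) M.presheaf (homOfLE inf_le_left) x hxW s

/-- Smoothness of a closed subscheme may be checked on a covering family of affine opens. -/
theorem smooth_subscheme (I : X.IdealSheafData) {ι : Type u} (U : ι → X.affineOpens) (hcov : ∀ x : X, ∃ p, x ∈ (U p).1)
    (h : ∀ p, ((Ideal.Quotient.mk (I.ideal (U p))).comp (cst k (U p).1)).Smooth) :
    Smooth (I.subschemeι ≫ (X ↘ Spec (CommRingCat.of k))) := by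
  let 𝒰 : I.subscheme.OpenCover :=
    Scheme.Cover.mkOfCovers ι (fun p => Spec (CommRingCat.of (Γ(X, (U p).1) ⧸ I.ideal (U p))))
      (fun p => I.subschemeCover.f (U p))
      (fun x => by
        obtain ⟨p, hp⟩ := hcov (I.subschemeι x)
        have : x ∈ (I.subschemeCover.f (U p)).opensRange := by
          rw [Scheme.IdealSheafData.opensRange_subschemeCover_map]; exact hp
        obtain ⟨y, hy⟩ := this
        exact ⟨p, y, hy⟩)
      (fun p => by infer_instance)
  refine IsZariskiLocalAtSource.of_openCover 𝒰 fun p => ?_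
  show Smooth (I.subschemeCover.f (U p) ≫ I.subschemeι ≫ (X ↘ Spec (CommRingCat.of k)))
  rw [reassoc_of% (I.subschemeCover_map_subschemeι (U p)), reassoc_of% (I.glueDataObjι_ι (U p)),
    fromSpec_comp (U p).1 (U p).2, ← Spec.map_comp, HasRingHomProperty.Spec_iff (P := @Smooth)]
  exact h p

/-- Near each point there is a standard smooth affine chart with a frame. -/
theorem exists_chart [Smooth (X ↘ Spec (CommRingCat.of k))] {L : X.Modules} (hL : PicF.IsInvertible L) (x : X) :
    ∃ (U : X.affineOpens) (e : Γ(L, U.1)) (r : ℕ), x ∈ U.1 ∧ InvX.IsFrame e ∧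
      RingHom.IsStandardSmoothOfRelativeDimension r (cst k U.1) := by
  obtain ⟨W, hxW, e, he⟩ := InvX.exists_frame hL x
  obtain ⟨U, hU, hxU, hUW⟩ := exists_isAffineOpen_mem_and_subset (U := W) (x := x) hxW
  have hsm : (cst k U).Smooth := by
    have h : Smooth (hU.fromSpec ≫ (X ↘ Spec (CommRingCat.of k))) := inferInstance
    rwa [fromSpec_comp U hU, HasRingHomProperty.Spec_iff (P := @Smooth), CommRingCat.hom_ofHom] at h
  letI := (cst k U).toAlgebra
  obtain ⟨s, hs, H⟩ := RingHom.Smooth.locally_isStandardSmooth hsm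
  let q := (hU.primeIdealOf ⟨x, hxU⟩).asIdeal
  obtain ⟨t, hts, htq⟩ : ∃ t ∈ s, t ∉ q := by
    by_contra! hc
    exact (hU.primeIdealOf ⟨x, hxU⟩).2.ne_top (top_le_iff.1 (hs ▸ Ideal.span_le.2 hc))
  letI := (cst k (X.basicOpen t)).toAlgebra
  haveI : IsScalarTower k Γ(X, U) Γ(X, X.basicOpen t) :=
    IsScalarTower.of_algebraMap_eq fun c => (res_cst (X.basicOpen_le t) c).symm
  haveI := hU.isLocalization_basicOpen t
  obtain ⟨⟨ι, σ, _, _, ⟨Q⟩⟩⟩ : Algebra.IsStandardSmooth k (Localization.Away t) := by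
    rw [← RingHom.isStandardSmooth_algebraMap, IsScalarTower.algebraMap_eq k Γ(X, U) (Localization.Away t)]
    exact H t hts
  haveI : Algebra.IsStandardSmoothOfRelativeDimension Q.dimension k (Localization.Away t) :=
    Q.isStandardSmoothOfRelativeDimension rfl
  refine ⟨X.affineBasicOpen (U := ⟨U, hU⟩) t, AModX.res L ((X.basicOpen_le t).trans hUW) e, Q.dimension,
    (QCoh.mem_basicOpen_iff_notMem hU hxU t).2 htq, he.res _, ?_⟩
  have := Algebra.IsStandardSmoothOfRelativeDimension.of_algEquiv (n := Q.dimension)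
    ((IsLocalization.algEquiv (Submonoid.powers t) (Localization.Away t) Γ(X, X.basicOpen t)).restrictScalars k)
  exact (RingHom.isStandardSmoothOfRelativeDimension_algebraMap _).2 this

end Groth.Agent.BertiniSec
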