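import Groth.Agent.BertiniAff.Quot
import Groth.Agent.SmoothDim.Basic
import Mathlib.RingTheory.Nakayama
import Mathlib.RingTheory.Jacobson.Ring

/-!
# Generic members of a family of functions on a smooth affine scheme
-/

open MvPolynomial Matrix KaehlerDifferential TensorProduct

universe u

namespace Groth.Agent.BertiniSec

open Groth.Agent.BertiniAff

variable {k : Type u} [Field k]

/-- The inhomogeneous form of `BertiniAff.exists_ne_zero_eval`. -/
theorem exists_ne_zero_eval_affine {B : Type u} [CommRing B] [Algebra k B] [Algebra.FiniteType k B] (m : ℕ)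
    (hB : ringKrullDim B ≤ m) (σ τ : Type u) [Fintype σ] [Fintype τ] [DecidableEq σ] [DecidableEq τ]
    (hσ : m < Fintype.card σ) (M : Matrix σ τ B) (N : Matrix τ σ B) (hMN : M * N = 1) (b : σ → B) :
    ∃ g : MvPolynomial τ k, g ≠ 0 ∧ ∀ (a : τ → k) (K : Type u) [Field K] [Algebra k K] (ev : B →ₐ[k] K),
      M.map ev *ᵥ (algebraMap k K ∘ a) = ev ∘ b → MvPolynomial.eval a g = 0 := by
  let P : Matrix τ τ B := 1 - N * M
  let T : τ → MvPolynomial τ B := fun i => MvPolynomial.X i
  let v : τ → MvPolynomial τ B := fun i => MvPolynomial.C ((N *ᵥ b) i) + (P.map MvPolynomial.C *ᵥ T) i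
  let θ : MvPolynomial τ k →ₐ[k] MvPolynomial τ B := MvPolynomial.aeval v
  have hθ : ¬ Function.Injective θ := by
    intro hinj
    let η : MvPolynomial (σ ⊕ τ) k →ₐ[k] MvPolynomial τ B :=
      MvPolynomial.aeval (Sum.elim (fun j => (M.map MvPolynomial.C *ᵥ T) j - MvPolynomial.C (b j)) v)
    let S : σ → MvPolynomial σ (MvPolynomial τ B) := fun j => MvPolynomial.X j
    let CC : B →+* MvPolynomial σ (MvPolynomial τ B) := MvPolynomial.C.comp MvPolynomial.C
    let T' : τ → MvPolynomial σ (MvPolynomial τ B) := (fun i => MvPolynomial.C (v i)) + N.map CC *ᵥ S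
    let Ψ : MvPolynomial τ B →ₐ[B] MvPolynomial σ (MvPolynomial τ B) := MvPolynomial.aeval T'
    have hΨ : ∀ {ι : Type u} (Q : Matrix ι τ B) (i : ι),
        Ψ ((Q.map MvPolynomial.C *ᵥ T) i) = (Q.map CC *ᵥ T') i := by
      intro ι Q i
      simp only [mulVec, dotProduct, map_sum, map_mul, Matrix.map_apply]
      refine Finset.sum_congr rfl fun j _ => ?_
      congr 1
      · exact MvPolynomial.aeval_C _ _
      · exact MvPolynomial.aeval_X _ _
    have hT' : T' = CC ∘ (N *ᵥ b) + P.map CC *ᵥ (fun i => MvPolynomial.C (T i)) + N.map CC *ᵥ S := by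
      refine congrArg (· + _) (_root_.funext fun i => ?_)
      show MvPolynomial.C (v i) = _
      simp only [v, Pi.add_apply, Function.comp_apply, map_add, mulVec, dotProduct, map_sum, map_mul,
        Matrix.map_apply, CC, RingHom.comp_apply]
    have hCC : ∀ {ι κ : Type u} [Fintype κ] (Q : Matrix ι κ B) (w : κ → B),
        Q.map CC *ᵥ (CC ∘ w) = CC ∘ (Q *ᵥ w) := fun Q w => _root_.funext fun i =>
      (RingHom.map_mulVec CC Q w i).symm
    have hMP : M * P = 0 := by
      rw [Matrix.mul_sub, Matrix.mul_one, ← Matrix.mul_assoc, hMN, Matrix.one_mul, sub_self]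
    have hPN : P * N = 0 := by
      rw [Matrix.sub_mul, Matrix.one_mul, Matrix.mul_assoc, hMN, Matrix.mul_one, sub_self]
    have hPP : P * P = P := by
      conv_lhs => arg 2; rw [show P = 1 - N * M from rfl]
      rw [Matrix.mul_sub, Matrix.mul_one, ← Matrix.mul_assoc, hPN, Matrix.zero_mul, sub_zero]
    have hMT : M.map CC *ᵥ T' = CC ∘ b + S := by
      rw [hT', mulVec_add, mulVec_add, hCC, mulVec_mulVec, mulVec_mulVec, mulVec_mulVec, ← Matrix.map_mul,
        ← Matrix.map_mul, hMP, hMN, Matrix.map_zero _ (map_zero CC),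
        Matrix.map_one _ (map_zero CC) (map_one CC), zero_mulVec, one_mulVec, one_mulVec, add_zero]
    have hPT : P.map CC *ᵥ T' = P.map CC *ᵥ (fun i => MvPolynomial.C (T i)) := by
      rw [hT', mulVec_add, mulVec_add, hCC, mulVec_mulVec, mulVec_mulVec, mulVec_mulVec, ← Matrix.map_mul,
        ← Matrix.map_mul, hPP, hPN, Matrix.map_zero _ (map_zero CC), zero_mulVec, zero_mulVec, add_zero]
      rw [show CC ∘ (0 : τ → B) = 0 from _root_.funext fun _ => map_zero CC, zero_add]
    have hl : ∀ i, Ψ (η (MvPolynomial.X (Sum.inl i))) = S i := fun i => by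
      rw [MvPolynomial.aeval_X, Sum.elim_inl, map_sub, hΨ, hMT, Pi.add_apply, Function.comp_apply]
      rw [show Ψ (MvPolynomial.C (b i)) = CC (b i) from MvPolynomial.aeval_C _ _, add_sub_cancel_left]
    have hr : ∀ i, Ψ (η (MvPolynomial.X (Sum.inr i))) = MvPolynomial.C (θ (MvPolynomial.X i)) := fun i => by
      rw [MvPolynomial.aeval_X, Sum.elim_inr, MvPolynomial.aeval_X]
      simp only [v, map_add, hΨ, hPT]
      rw [show Ψ (MvPolynomial.C ((N *ᵥ b) i)) = CC ((N *ᵥ b) i) from MvPolynomial.aeval_C _ _]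
      simp only [mulVec, dotProduct, map_sum, map_mul, Matrix.map_apply, CC, RingHom.comp_apply]
    have key : (Ψ.restrictScalars k).comp η = AlgHom.comp
        ((MvPolynomial.mapAlgHom θ : MvPolynomial σ (MvPolynomial τ k) →ₐ[k] MvPolynomial σ (MvPolynomial τ B)))
        (MvPolynomial.sumAlgEquiv k σ τ).toAlgHom := by
      refine MvPolynomial.algHom_ext fun i => ?_
      rcases i with i | i
      · rw [AlgHom.comp_apply, AlgHom.restrictScalars_apply, hl]
        simp [S]
      · rw [AlgHom.comp_apply, AlgHom.restrictScalars_apply, hr]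
        simp
    have hη : Function.Injective η := by
      refine Function.Injective.of_comp (f := (Ψ.restrictScalars k)) ?_
      rw [← AlgHom.coe_comp, key, AlgHom.coe_comp]
      exact (MvPolynomial.map_injective θ.toRingHom hinj).comp (MvPolynomial.sumAlgEquiv k σ τ).injective
    haveI : IsNoetherianRing B := Algebra.FiniteType.isNoetherianRing k B
    haveI : Algebra.FiniteType k (MvPolynomial τ B) := Algebra.FiniteType.trans (S := B) inferInstance inferInstance
    have h := le_ringKrullDim_of_injective η hη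
    rw [MvPolynomial.ringKrullDim_of_isNoetherianRing, Fintype.card_sum, Nat.card_eq_fintype_card] at h
    have h' := h.trans (add_le_add_left hB _)
    norm_cast at h'
    omega
  rw [injective_iff_map_eq_zero] at hθ
  push Not at hθ
  obtain ⟨g, hg, hg0⟩ := hθ
  refine ⟨g, hg0, fun a K _ _ ev hev => ?_⟩
  let ā : τ → K := algebraMap k K ∘ a
  let E : MvPolynomial τ B →+* K := MvPolynomial.eval₂Hom ev.toRingHom ā
  have hP : P.map ev *ᵥ ā = ā - ev ∘ (N *ᵥ b) := by
    have h1 : P.map ev = 1 - N.map ev * M.map ev := by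
      rw [show P = 1 - N * M from rfl, Matrix.map_sub _ (map_sub ev), Matrix.map_one _ (map_zero ev) (map_one ev),
        Matrix.map_mul]
    rw [h1, sub_mulVec, one_mulVec, ← mulVec_mulVec, hev]
    exact congrArg (ā - ·) (_root_.funext fun i => (RingHom.map_mulVec ev.toRingHom N b i).symm)
  have hE : ∀ q, E (θ q) = algebraMap k K (MvPolynomial.eval a q) := by
    intro q
    induction q using MvPolynomial.induction_on with
    | C c => simp [θ, E, IsScalarTower.algebraMap_apply k B (MvPolynomial τ B)]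
    | add p q hp hq => simp [map_add, hp, hq]
    | mul_X p i hp =>
      rw [map_mul, map_mul, hp, MvPolynomial.aeval_X, map_mul, map_mul, MvPolynomial.eval_X]
      congr 1
      have h2 : E ((P.map MvPolynomial.C *ᵥ T) i) = (P.map ev *ᵥ ā) i := by simp [E, mulVec, dotProduct, T]
      show E (MvPolynomial.C _ + _) = _
      rw [map_add, h2, hP, show E (MvPolynomial.C ((N *ᵥ b) i)) = ev ((N *ᵥ b) i) from by simp [E]]
      simp [ā]
  have := hE g
  rw [hg, map_zero] at this
  exact (map_eq_zero _).1 this.symm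

/-- A submodule of a finite module that generates modulo every maximal ideal is everything. -/
theorem eq_top_of_sup_smul {B M : Type*} [CommRing B] [AddCommGroup M] [Module B M] [Module.Finite B M]
    (N : Submodule B M) (h : ∀ n : Ideal B, n.IsMaximal → N ⊔ n • ⊤ = ⊤) : N = ⊤ := by
  by_contra hne
  have hann : Module.annihilator B (M ⧸ N) ≠ ⊤ := fun htop => hne (by
    refine eq_top_iff.2 fun x _ => ?_
    have h1 : (1 : B) • (Submodule.Quotient.mk x : M ⧸ N) = 0 :=
      Module.mem_annihilator.1 (htop ▸ Submodule.mem_top) _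
    rwa [one_smul, Submodule.Quotient.mk_eq_zero] at h1)
  obtain ⟨n, hn, hle⟩ := Ideal.exists_le_maximal _ hann
  have hQ : (⊤ : Submodule B (M ⧸ N)) ≤ n • ⊤ := by
    intro q _
    obtain ⟨x, rfl⟩ := Submodule.Quotient.mk_surjective N q
    obtain ⟨y, hy, z, hz, rfl⟩ := Submodule.mem_sup.1 (show x ∈ N ⊔ n • ⊤ by rw [h n hn]; trivial)
    rw [Submodule.Quotient.mk_add, (Submodule.Quotient.mk_eq_zero N).2 hy, zero_add]
    have := Submodule.mem_map_of_mem (f := N.mkQ) hz
    rw [Submodule.map_smul'', Submodule.map_top, Submodule.range_mkQ] at this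
    exact this
  obtain ⟨r, hr, hr0⟩ := Submodule.exists_sub_one_mem_and_smul_eq_zero_of_fg_of_le_smul n ⊤
    Module.Finite.fg_top hQ
  have hrn : r ∈ n := hle (Module.mem_annihilator.2 fun q => hr0 q trivial)
  exact hn.ne_top (Ideal.eq_top_iff_one _ |>.2 (by simpa using sub_mem hrn hr))

/-- A hypersurface whose differential is invertible along it is formally smooth. -/
theorem formallySmooth_quotient' {k B : Type u} [CommRing k] [CommRing B] [Algebra k B] [Algebra.FormallySmooth k B]
    (h : B) (φ : Ω[B⁄k] →ₗ[B] B) (hφ : φ (D k B h) - 1 ∈ Ideal.span {h}) :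
    Algebra.FormallySmooth k (B ⧸ Ideal.span {h}) := by
  have hs : Function.Surjective (algebraMap B (B ⧸ Ideal.span {h})) := Ideal.Quotient.mk_surjective
  let I := RingHom.ker (algebraMap B (B ⧸ Ideal.span {h}))
  have hI : h ∈ I := Ideal.Quotient.eq_zero_iff_mem.2 (Ideal.mem_span_singleton_self h)
  let hb : I.Cotangent := I.toCotangent ⟨h, hI⟩
  have hhb : ∀ b ∈ I, b • hb = 0 := fun b hb' => by
    rw [← map_smul, Ideal.toCotangent_eq_zero, pow_two]
    exact Ideal.mul_mem_mul hb' hI
  let μ : (B ⧸ Ideal.span {h}) →ₗ[B] I.Cotangent :=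
    Submodule.liftQ (Ideal.span {h}) (LinearMap.toSpanSingleton B _ hb) fun b hb' => by
      rw [LinearMap.mem_ker, LinearMap.toSpanSingleton_apply]
      exact hhb b (Ideal.Quotient.eq_zero_iff_mem.2 hb')
  let l : (B ⧸ Ideal.span {h}) ⊗[B] Ω[B⁄k] →ₗ[B] I.Cotangent :=
    μ ∘ₗ (TensorProduct.rid B (B ⧸ Ideal.span {h})).toLinearMap ∘ₗ φ.lTensor _
  refine (Algebra.FormallySmooth.iff_split_injection (P := B) hs).2 ⟨l, ?_⟩
  refine LinearMap.ext fun z => ?_
  obtain ⟨⟨z, hz⟩, rfl⟩ := Ideal.toCotangent_surjective _ z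
  rw [LinearMap.comp_apply, kerCotangentToTensor_toCotangent]
  have hz' := hz
  rw [Ideal.Quotient.algebraMap_eq, Ideal.mk_ker, Ideal.mem_span_singleton'] at hz'
  obtain ⟨b, rfl⟩ := hz'
  obtain ⟨e, he⟩ := Ideal.mem_span_singleton'.1 hφ
  show μ (φ (D k B (b * h)) • (1 : B ⧸ Ideal.span {h})) = _
  rw [map_smul, Derivation.leibniz, map_add, map_smul, map_smul, show φ (D k B h) = 1 + e * h by linear_combination -he,
    smul_eq_mul, smul_eq_mul, add_smul, mul_add, mul_one, add_smul, ← mul_assoc, mul_smul (b * e) h, mul_smul h,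
    show μ 1 = (1 : B) • hb from rfl, one_smul, hhb h hI, smul_zero, add_zero, smul_comm h, hhb h hI, smul_zero,
    add_zero, LinearMap.id_apply, ← map_smul]
  rfl

theorem smooth_quotient {k B : Type u} [CommRing k] [CommRing B] [Algebra k B] [Algebra.Smooth k B]
    (h : B) (H : ∀ v : Ideal B, v.IsPrime → h ∈ v → ∃ φ : Ω[B⁄k] →ₗ[B] B, φ (D k B h) ∉ v) :
    Algebra.Smooth k (B ⧸ Ideal.span {h}) := by
  have htop : (Ideal.span {h}) ⊔ LinearMap.range (LinearMap.applyₗ (R := B) (M₂ := B) (D k B h)) = ⊤ := by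
    by_contra hne
    obtain ⟨v, hv, hle⟩ := Ideal.exists_le_maximal _ hne
    obtain ⟨φ, hφ⟩ := H v hv.isPrime (hle (Submodule.mem_sup_left (Ideal.mem_span_singleton_self h)))
    exact hφ (hle (Submodule.mem_sup_right ⟨φ, rfl⟩))
  obtain ⟨x, hx, y, ⟨φ, rfl⟩, hxy⟩ := Submodule.mem_sup.1 ((Ideal.eq_top_iff_one _).1 htop)
  haveI : Algebra.FormallySmooth k (B ⧸ Ideal.span {h}) := formallySmooth_quotient' h φ (by
    have : φ (D k B h) - 1 = -x := by
      rw [← hxy]; show φ (D k B h) - (x + φ (D k B h)) = _; ring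
    rw [this]
    exact neg_mem hx)
  haveI : Algebra.FinitePresentation k (B ⧸ Ideal.span {h}) :=
    Algebra.FinitePresentation.quotient ⟨{h}, by simp⟩
  exact ⟨inferInstance, inferInstance⟩

/-- If the functions `a` separate first order jets, the bad members lie in a proper closed subset. -/
theorem jets_bad [IsAlgClosed k] {B : Type u} [CommRing B] [Algebra k B] (r : ℕ)
    [Algebra.IsStandardSmoothOfRelativeDimension r k B] [Nontrivial B] {m : ℕ} (a : Fin m → B) (a₀ : B)
    (hjet : ∀ n : Ideal B, n.IsMaximal → ∀ y : B, ∃ c : Fin m → k, ∑ i, algebraMap k B (c i) * a i - y ∈ n ^ 2) :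
    ∃ g : MvPolynomial (Fin m) k, g ≠ 0 ∧ ∀ c : Fin m → k, MvPolynomial.eval c g ≠ 0 →
      ∀ v : Ideal B, v.IsPrime → a₀ + ∑ i, algebraMap k B (c i) * a i ∈ v →
        ∃ φ : Ω[B⁄k] →ₗ[B] B, φ (D k B (a₀ + ∑ i, algebraMap k B (c i) * a i)) ∉ v := by
  classical
  haveI : Algebra.IsStandardSmooth k B := Algebra.IsStandardSmoothOfRelativeDimension.isStandardSmooth r
  haveI : Algebra.FiniteType k B := inferInstance
  let b : Module.Basis (Fin r) B Ω[B⁄k] := Module.finBasisOfFinrankEq B _ (finrank_kaehler r)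
  let σ := ULift.{u} (Option (Fin r))
  let τ := ULift.{u} (Fin m)
  let M : Matrix σ τ B := fun j i =>
    Option.elim j.down (a i.down) (fun l => b.repr (D k B (a i.down)) l)
  have hM0 : ∀ (c : τ → B), (M *ᵥ c) ⟨none⟩ = ∑ i, c ⟨i⟩ * a i := fun c => by
    simp only [mulVec, dotProduct, M, Option.elim_none]
    rw [← Equiv.ulift.symm.sum_comp]
    simp [mul_comm]
  have hMs : ∀ (c : τ → B) (l : Fin r), (M *ᵥ c) ⟨some l⟩ = b.repr (∑ i, c ⟨i⟩ • D k B (a i)) l := fun c l => by
    simp only [mulVec, dotProduct, M, Option.elim_some]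
    rw [← Equiv.ulift.symm.sum_comp]
    simp [mul_comm]
  have hsurj : Function.Surjective M.mulVec := by
    suffices LinearMap.range M.mulVecLin = ⊤ by exact LinearMap.range_eq_top.1 this
    refine eq_top_of_sup_smul _ fun n hn => eq_top_iff.2 fun y _ => ?_
    haveI := hn
    have hconst : ∀ w : B, ∃ t : k, w - algebraMap k B t ∈ n := fun w => by
      letI := Ideal.Quotient.field n
      haveI : Module.Finite k (B ⧸ n) := finite_of_finite_type_of_isJacobsonRing k (B ⧸ n)
      haveI : Algebra.IsIntegral k (B ⧸ n) := Algebra.IsIntegral.of_finite k _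
      obtain ⟨t, ht⟩ := (IsAlgClosed.algebraMap_bijective_of_isIntegral (k := k) (K := B ⧸ n)).2
        (Ideal.Quotient.mk n w)
      exact ⟨t, Ideal.Quotient.eq.1 (by rw [← ht]; rfl)⟩
    have hD : ∀ ω : Ω[B⁄k], ∃ e ∈ n, ω - D k B e ∈ n • (⊤ : Submodule B Ω[B⁄k]) := by
      intro ω
      have hω : ω ∈ Submodule.span B (Set.range (D k B)) := by
        rw [KaehlerDifferential.span_range_derivation]; trivial
      induction hω using Submodule.span_induction with
      | mem _ hω =>
        obtain ⟨w, rfl⟩ := hω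
        obtain ⟨t, ht⟩ := hconst w
        exact ⟨_, ht, by rw [map_sub, Derivation.map_algebraMap, sub_zero, sub_self]; exact zero_mem _⟩
      | zero => exact ⟨0, zero_mem _, by simp⟩
      | add x z _ _ hx hz =>
        obtain ⟨e, he, he'⟩ := hx
        obtain ⟨f, hf, hf'⟩ := hz
        exact ⟨e + f, add_mem he hf, by rw [map_add, add_sub_add_comm]; exact add_mem he' hf'⟩
      | smul u x _ hx =>
        obtain ⟨e, he, he'⟩ := hx
        obtain ⟨t, ht⟩ := hconst u
        refine ⟨algebraMap k B t * e, Ideal.mul_mem_left _ _ he, ?_⟩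
        rw [Derivation.leibniz, Derivation.map_algebraMap, smul_zero, add_zero]
        have : u • x - algebraMap k B t • D k B e = u • (x - D k B e) + (u - algebraMap k B t) • D k B e := by
          rw [smul_sub, sub_smul]; abel
        rw [this]
        exact add_mem (Submodule.smul_mem _ _ he') (Submodule.smul_mem_smul ht trivial)
    obtain ⟨e, he, he'⟩ := hD (∑ l, y ⟨some l⟩ • b l)
    obtain ⟨t₀, ht₀⟩ := hconst (y ⟨none⟩)
    obtain ⟨c, hc⟩ := hjet n hn (algebraMap k B t₀ + e)
    let cB : τ → B := fun i => algebraMap k B (c i.down)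
    have hc' : ∀ z ∈ n ^ 2, D k B z ∈ n • (⊤ : Submodule B Ω[B⁄k]) := fun z hz => by
      rw [pow_two] at hz
      refine Submodule.mul_induction_on hz (fun p hp q hq => ?_) fun x z hx hz => ?_
      · rw [Derivation.leibniz]
        exact add_mem (Submodule.smul_mem_smul hp trivial) (Submodule.smul_mem_smul hq trivial)
      · rw [map_add]; exact add_mem hx hz
    have hcoord : ∀ j, y j - (M *ᵥ cB) j ∈ n := by
      rintro ⟨_ | l⟩
      · rw [hM0]
        have : y ⟨none⟩ - ∑ i, cB ⟨i⟩ * a i = (y ⟨none⟩ - algebraMap k B t₀) - e -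
            (∑ i, algebraMap k B (c i) * a i - (algebraMap k B t₀ + e)) := by
          simp only [cB]; ring
        rw [this]
        exact sub_mem (sub_mem ht₀ he) (Ideal.pow_le_self two_ne_zero hc)
      · rw [hMs]
        have h1 : ∑ i, cB ⟨i⟩ • D k B (a i) = D k B (∑ i, algebraMap k B (c i) * a i) := by
          rw [map_sum]
          refine Finset.sum_congr rfl fun i _ => ?_
          rw [Derivation.leibniz, Derivation.map_algebraMap, smul_zero, add_zero]
        have h2 : (∑ l, y ⟨some l⟩ • b l) - ∑ i, cB ⟨i⟩ • D k B (a i) ∈ n • (⊤ : Submodule B Ω[B⁄k]) := by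
          have := sub_mem he' (hc' _ hc)
          rw [map_sub, map_add, Derivation.map_algebraMap, zero_add, sub_sub, add_sub_cancel] at this
          rwa [h1]
        have h3 : b.coord l ((∑ l, y ⟨some l⟩ • b l) - ∑ i, cB ⟨i⟩ • D k B (a i)) ∈ n • (⊤ : Submodule B B) :=
          Submodule.smul_top_le_comap_smul_top n (b.coord l) h2
        rw [Ideal.smul_eq_mul, Ideal.mul_top, map_sub, map_sum] at h3
        simpa [Finsupp.single_apply] using h3
    refine Submodule.mem_sup.2 ⟨M *ᵥ cB, ⟨cB, rfl⟩, y - M *ᵥ cB, ?_, add_sub_cancel _ _⟩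
    rw [pi_eq_sum_univ (y - M *ᵥ cB)]
    exact sum_mem fun j _ => Submodule.smul_mem_smul (hcoord j) trivial
  obtain ⟨N, hN⟩ := Matrix.mulVec_surjective_iff_exists_right_inverse.1 hsurj
  let rhs : σ → B := fun j => -Option.elim j.down a₀ (fun l => b.repr (D k B a₀) l)
  obtain ⟨g, hg0, hg⟩ := exists_ne_zero_eval_affine (k := k) r (SmoothDim.ringKrullDim_eq k B r).le σ τ
    (by simp [σ]) M N hN rhs
  refine ⟨MvPolynomial.renameEquiv k Equiv.ulift g, (map_ne_zero_iff _ (AlgEquiv.injective _)).2 hg0,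
    fun c hc v hv hmem => ?_⟩
  by_contra! hall
  refine hc ?_
  rw [MvPolynomial.renameEquiv_apply, MvPolynomial.eval_rename]
  let cB : τ → B := fun i => algebraMap k B (c i.down)
  have hvec : ∀ j, (M *ᵥ cB) j - rhs j ∈ v := by
    rintro ⟨_ | l⟩
    · rw [hM0]
      show _ - -a₀ ∈ v
      rw [sub_neg_eq_add, add_comm]
      exact hmem
    · rw [hMs]
      show _ - -(b.repr (D k B a₀) l) ∈ v
      rw [sub_neg_eq_add, ← Finsupp.add_apply, ← map_add, add_comm]
      have h1 : D k B a₀ + ∑ i, cB ⟨i⟩ • D k B (a i) = D k B (a₀ + ∑ i, algebraMap k B (c i) * a i) := by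
        rw [map_add, map_sum]
        refine congrArg _ (Finset.sum_congr rfl fun i _ => ?_)
        rw [Derivation.leibniz, Derivation.map_algebraMap, smul_zero, add_zero]
      rw [h1]
      exact hall (b.coord l)
  let ev : B →ₐ[k] v.ResidueField := IsScalarTower.toAlgHom k B _
  refine hg (c ∘ Equiv.ulift) v.ResidueField ev (_root_.funext fun j => ?_)
  have h3 : ev ((M *ᵥ cB) j) = ev (rhs j) := sub_eq_zero.1 (by
    rw [← map_sub]
    exact Ideal.algebraMap_residueField_eq_zero.2 (hvec j))
  have h2 := RingHom.map_mulVec ev.toRingHom M cB j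
  refine Eq.trans ?_ (h2.symm.trans h3)
  refine congrArg (fun w => Matrix.mulVec (M.map ev) w j) (_root_.funext fun i => ?_)
  exact (ev.commutes _).symm

end Groth.Agent.BertiniSec
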