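import Groth.Agent.BertiniSec.Affine
import Groth.Agent.SmoothReg.Field
import Groth.Agent.BlowExc.Regular
import Mathlib.RingTheory.Smooth.Locus
import Mathlib.Algebra.MvPolynomial.PDeriv
import Mathlib.FieldTheory.Perfect

/-!
# Generic members of a generating family, characteristic zero
-/

open MvPolynomial KaehlerDifferential TensorProduct

universe u

namespace Groth.Agent.BertiniSec

variable {k : Type u} [Field k]

theorem formallySmooth_residueField {K A : Type u} [Field K] [PerfectField K] [CommRing A] [Algebra K A]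
    [Algebra.FiniteType K A] (Q : Ideal A) [Q.IsPrime] : Algebra.FormallySmooth K Q.ResidueField := by
  haveI : Algebra.EssFiniteType A Q.ResidueField := inferInstance
  haveI : Algebra.EssFiniteType K Q.ResidueField := .comp K A _
  exact Algebra.FormallySmooth.of_perfectField

attribute [local instance] Algebra.TensorProduct.rightAlgebra in
/-- A smooth `k`-algebra over a polynomial ring is smooth over a nonempty open subset, in characteristic zero. -/
theorem exists_smooth_away [CharZero k] {R T : Type u} [CommRing R] [IsDomain R] [Algebra k R] [CommRing T]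
    [Algebra k T] [Algebra R T] [IsScalarTower k R T] [IsNoetherianRing R] [Algebra.Smooth k T] :
    ∃ g : R, g ≠ 0 ∧ Algebra.Smooth R (Localization.Away (algebraMap R T g)) := by
  haveI : Algebra.FiniteType R T := Algebra.FiniteType.of_restrictScalars_finiteType k R T
  haveI : Algebra.FinitePresentation R T := Algebra.FinitePresentation.of_finiteType.1 inferInstance
  let K := FractionRing R
  haveI : CharZero K := charZero_of_injective_algebraMap (algebraMap k K).injective
  haveI : PerfectField K := PerfectField.ofCharZero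
  let TK := K ⊗[R] T
  let Mon := Algebra.algebraMapSubmonoid T (nonZeroDivisors R)
  haveI : IsLocalization Mon TK := IsLocalization.tensorRight (S := T) (A := K) (nonZeroDivisors R)
  have hsm : ∀ q : PrimeSpectrum T, Disjoint (Mon : Set T) (q.asIdeal : Set T) → q ∈ Algebra.smoothLocus R T := by
    intro q hq
    let Q : Ideal TK := q.asIdeal.map (algebraMap T TK)
    haveI hQ : Q.IsPrime := IsLocalization.isPrime_of_isPrime_disjoint Mon TK q.asIdeal q.2 hq
    have hQc : Q.comap (algebraMap T TK) = q.asIdeal :=
      IsLocalization.comap_map_of_isPrime_disjoint Mon TK q.2 hq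
    haveI : IsLocalization.AtPrime (Localization.AtPrime Q) (Q.comap (algebraMap T TK)) :=
      IsLocalization.isLocalization_isLocalization_atPrime_isLocalization Mon _ Q
    haveI : IsLocalization.AtPrime (Localization.AtPrime Q) q.asIdeal := by
      have e : q.asIdeal.primeCompl = (Q.comap (algebraMap T TK)).primeCompl := by
        ext x; simp [Ideal.primeCompl, ← hQc]
      show IsLocalization q.asIdeal.primeCompl (Localization.AtPrime Q)
      rw [e]
      infer_instance
    haveI : IsRegularLocalRing (Localization.AtPrime (q.asIdeal.comap (algebraMap k T))) := by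
      have hb : q.asIdeal.comap (algebraMap k T) = ⊥ := by
        rcases Ideal.eq_bot_or_top (q.asIdeal.comap (algebraMap k T)) with h | h
        · exact h
        · exact absurd h (Ideal.comap_ne_top _ q.2.ne_top)
      haveI : IsLocalization.AtPrime k (q.asIdeal.comap (algebraMap k T)) :=
        IsLocalization.self fun x hx => isUnit_iff_ne_zero.2 fun h0 => hx (h0 ▸ Ideal.zero_mem _)
      exact IsRegularLocalRing.of_ringEquiv
        (IsLocalization.algEquiv (q.asIdeal.comap (algebraMap k T)).primeCompl k
          (Localization.AtPrime (q.asIdeal.comap (algebraMap k T)))).toRingEquiv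
    haveI hreg := BlowExc.regular_of_smooth k T q.asIdeal
    have hregQ : IsRegularLocalRing (Localization.AtPrime Q) :=
      IsRegularLocalRing.of_ringEquiv
        (IsLocalization.algEquiv q.asIdeal.primeCompl (Localization.AtPrime q.asIdeal) (Localization.AtPrime Q)).toRingEquiv
    haveI : Algebra.FiniteType K TK := inferInstance
    haveI : Algebra.FormallySmooth K Q.ResidueField := formallySmooth_residueField Q
    haveI : Algebra.FormallySmooth K (Localization.AtPrime Q) := SmoothReg.isSmoothAt_of_isRegularLocalRing Q hregQ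
    haveI : Algebra.FormallyEtale R K := Algebra.FormallyEtale.of_isLocalization (nonZeroDivisors R)
    haveI : Algebra.FormallySmooth R (Localization.AtPrime Q) := Algebra.FormallySmooth.comp R K _
    exact (Algebra.FormallySmooth.iff_of_equiv
      ((IsLocalization.algEquiv q.asIdeal.primeCompl (Localization.AtPrime Q) (Localization.AtPrime q.asIdeal)).restrictScalars R)).1 ‹_›
  obtain ⟨J, hJ⟩ := (PrimeSpectrum.isClosed_iff_zeroLocus_ideal _).1
    (Algebra.isOpen_smoothLocus (R := R) (A := T)).isClosed_compl
  obtain ⟨t, htJ, g, hg, rfl⟩ : ∃ t ∈ J, t ∈ Mon := by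
    by_contra! hno
    obtain ⟨q, hqp, hJq, hdisj⟩ := Ideal.exists_le_prime_disjoint (I := J) Mon
      (Set.disjoint_left.2 hno)
    exact hJ.ge (show (⟨q, hqp⟩ : PrimeSpectrum T) ∈ PrimeSpectrum.zeroLocus (J : Set T) from hJq)
      (hsm ⟨q, hqp⟩ hdisj.symm)
  refine ⟨g, nonZeroDivisors.ne_zero hg, Algebra.basicOpen_subset_smoothLocus_iff_smooth.1 fun q hq => ?_⟩
  by_contra hns
  exact hq ((hJ.le hns : _ ∈ PrimeSpectrum.zeroLocus (J : Set T)) htJ)

/-- In characteristic zero the generic member of a family without common zero is smooth. -/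
theorem gen_bad [CharZero k] {B : Type u} [CommRing B] [Algebra k B] [Algebra.Smooth k B] {n : ℕ}
    (a : Fin n → B) (hgen : Ideal.span (Set.range a) = ⊤) :
    ∃ g : MvPolynomial (Fin n) k, g ≠ 0 ∧ ∀ c : Fin n → k, MvPolynomial.eval c g ≠ 0 →
      Algebra.Smooth k (B ⧸ Ideal.span {∑ i, algebraMap k B (c i) * a i}) := by
  classical
  let P := MvPolynomial (Fin n) B
  let H : P := ∑ i, MvPolynomial.X i * MvPolynomial.C (a i)
  obtain ⟨w, hw⟩ := Ideal.mem_span_range_iff_exists_fun.1 ((Ideal.eq_top_iff_one _).1 hgen)
  haveI : Algebra.Smooth B P := ⟨inferInstance, inferInstance⟩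
  haveI : Algebra.Smooth k P := Algebra.Smooth.comp k B P
  let δ : Derivation k P P := ∑ i, w i • (MvPolynomial.pderiv (R := B) i).restrictScalars k
  let φ : Ω[P⁄k] →ₗ[P] P := δ.liftKaehlerDifferential
  have hφ : φ (D k P H) = 1 := by
    rw [Derivation.liftKaehlerDifferential_comp_D]
    show δ H = 1
    have : ∀ i, MvPolynomial.pderiv (R := B) i H = MvPolynomial.C (a i) := fun i => by
      simp only [H, map_sum, Derivation.leibniz, MvPolynomial.pderiv_C, smul_zero, zero_add]
      rw [Finset.sum_eq_single i (fun j _ hj => by simp [MvPolynomial.pderiv_X_of_ne hj]) (by simp)]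
      simp
    calc δ H = ∑ i, w i • MvPolynomial.C (a i) := by
            simp only [δ]
            rw [← Derivation.coeFnAddMonoidHom_apply, map_sum, Finset.sum_apply]
            exact Finset.sum_congr rfl fun i _ => congrArg (w i • ·) (this i)
      _ = MvPolynomial.C (∑ i, w i * a i) := by simp [MvPolynomial.smul_eq_C_mul]
      _ = 1 := by rw [hw, map_one]
  let T := P ⧸ Ideal.span {H}
  haveI : Algebra.FormallySmooth k T := BertiniAff.formallySmooth_quotient H φ hφ
  haveI : Algebra.FinitePresentation k T := Algebra.FinitePresentation.quotient ⟨{H}, by simp⟩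
  haveI : Algebra.Smooth k T := ⟨inferInstance, inferInstance⟩
  let R := MvPolynomial (Fin n) k
  let ρ : R →ₐ[k] T := MvPolynomial.aeval fun i => Ideal.Quotient.mk _ (MvPolynomial.X i)
  letI : Algebra R T := ρ.toRingHom.toAlgebra
  haveI : IsScalarTower k R T := IsScalarTower.of_algebraMap_eq fun x => (ρ.commutes x).symm
  obtain ⟨g, hg0, hgs⟩ := exists_smooth_away (k := k) (R := R) (T := T)
  refine ⟨g, hg0, fun c hc => ?_⟩
  haveI := hgs
  let Tg := Localization.Away (algebraMap R T g)
  let h := ∑ i, algebraMap k B (c i) * a i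
  let C := B ⧸ Ideal.span {h}
  let evc : R →ₐ[k] k := MvPolynomial.aeval c
  letI : Algebra R k := evc.toRingHom.toAlgebra
  letI : Algebra R C := ((algebraMap k C).comp evc.toRingHom).toAlgebra
  haveI : IsScalarTower R k C := IsScalarTower.of_algebraMap_eq fun _ => rfl
  haveI : IsScalarTower k R k := IsScalarTower.of_algebraMap_eq fun x => (evc.commutes x).symm
  haveI : Algebra.Smooth k (k ⊗[R] Tg) := inferInstance
  -- the map from the fibre to the member
  let γP : P →+* C := MvPolynomial.eval₂Hom (Ideal.Quotient.mk _) fun i => algebraMap k C (c i)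
  have hγH : γP H = 0 := by
    have : γP H = Ideal.Quotient.mk (Ideal.span {h}) h := by
      simp only [γP, H, h, map_sum, map_mul]
      refine Finset.sum_congr rfl fun i _ => ?_
      rw [MvPolynomial.eval₂Hom_X', MvPolynomial.eval₂Hom_C]
      rfl
    rw [this]
    exact Ideal.Quotient.eq_zero_iff_mem.2 (Ideal.mem_span_singleton_self h)
  let γT : T →+* C := Ideal.Quotient.lift _ γP fun x hx => by
    obtain ⟨y, rfl⟩ := Ideal.mem_span_singleton'.1 hx
    rw [map_mul, hγH, mul_zero]
  have hγR : γT.comp (algebraMap R T) = algebraMap R C := by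
    refine MvPolynomial.ringHom_ext (fun x => ?_) fun i => ?_
    · show γT (ρ (MvPolynomial.C x)) = algebraMap k C (evc (MvPolynomial.C x))
      rw [show ρ (MvPolynomial.C x) = Ideal.Quotient.mk _ (algebraMap k P x) from MvPolynomial.aeval_C _ _,
        show evc (MvPolynomial.C x) = x from MvPolynomial.aeval_C _ _, IsScalarTower.algebraMap_apply k B P]
      exact MvPolynomial.eval₂Hom_C _ _ _
    · show γT (ρ (MvPolynomial.X i)) = algebraMap k C (evc (MvPolynomial.X i))
      rw [show ρ (MvPolynomial.X i) = Ideal.Quotient.mk _ (MvPolynomial.X i) from MvPolynomial.aeval_X _ _,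
        show evc (MvPolynomial.X i) = c i from MvPolynomial.aeval_X _ _]
      exact MvPolynomial.eval₂Hom_X' _ _ _
  have hunit : IsUnit (γT (algebraMap R T g)) := by
    rw [← RingHom.comp_apply, hγR]
    exact (isUnit_iff_ne_zero.2 (show MvPolynomial.aeval c g ≠ 0 by rwa [MvPolynomial.aeval_eq_eval])).map (algebraMap k C)
  let γ : Tg →ₐ[R] C :=
    { (IsLocalization.Away.lift (algebraMap R T g) hunit : Tg →+* C) with
      commutes' := fun x => by
        show IsLocalization.Away.lift (algebraMap R T g) hunit (algebraMap R Tg x) = _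
        rw [IsScalarTower.algebraMap_apply R T Tg, IsLocalization.Away.lift_eq, ← RingHom.comp_apply, hγR] }
  let β : k ⊗[R] Tg →ₐ[k] C := Algebra.TensorProduct.lift (Algebra.ofId k C) γ fun _ _ => mul_comm _ _
  let ιB : B →ₐ[k] k ⊗[R] Tg :=
    ((Algebra.TensorProduct.includeRight : Tg →ₐ[R] k ⊗[R] Tg).restrictScalars k).comp
      ((IsScalarTower.toAlgHom k T Tg).comp ((Ideal.Quotient.mkₐ k _).comp (IsScalarTower.toAlgHom k B P)))
  have hι : ∀ b, ιB b = (1 : k) ⊗ₜ algebraMap T Tg (Ideal.Quotient.mk _ (MvPolynomial.C b)) := fun _ => rfl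
  have hscal : ∀ i, ιB (algebraMap k B (c i)) =
      (1 : k) ⊗ₜ algebraMap T Tg (Ideal.Quotient.mk _ (MvPolynomial.X i)) := fun i => by
    rw [AlgHom.commutes, Algebra.TensorProduct.algebraMap_apply, Algebra.algebraMap_self, RingHom.id_apply,
      show (c i : k) = (MvPolynomial.X i : R) • (1 : k) from by
        rw [Algebra.smul_def, mul_one]; exact (MvPolynomial.aeval_X c i).symm,
      TensorProduct.smul_tmul, Algebra.smul_def, mul_one, IsScalarTower.algebraMap_apply R T Tg,
      show algebraMap R T (MvPolynomial.X i) = Ideal.Quotient.mk _ (MvPolynomial.X i) from MvPolynomial.aeval_X _ i]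
  let α : C →ₐ[k] k ⊗[R] Tg := Ideal.Quotient.liftₐ _ ιB fun x hx => by
    obtain ⟨y, rfl⟩ := Ideal.mem_span_singleton'.1 hx
    rw [map_mul]
    refine mul_eq_zero_of_right _ ?_
    show ιB (∑ i, algebraMap k B (c i) * a i) = 0
    rw [map_sum]
    simp only [map_mul ιB, hscal]
    simp only [hι, Algebra.TensorProduct.tmul_mul_tmul, one_mul, ← map_mul, ← TensorProduct.tmul_sum, ← map_sum]
    show (1 : k) ⊗ₜ[R] algebraMap T Tg (Ideal.Quotient.mk _ H) = 0
    rw [Ideal.Quotient.eq_zero_iff_mem.2 (Ideal.mem_span_singleton_self H), map_zero, TensorProduct.tmul_zero]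
  have hγmk : ∀ x : P, γ (algebraMap T Tg (Ideal.Quotient.mk _ x)) = γP x := fun x =>
    IsLocalization.Away.lift_eq _ hunit _
  refine Algebra.Smooth.of_equiv (AlgEquiv.ofAlgHom β α ?_ ?_)
  · refine Ideal.Quotient.algHom_ext _ (AlgHom.ext fun b => ?_)
    show β (ιB b) = Ideal.Quotient.mk _ b
    rw [hι, Algebra.TensorProduct.lift_tmul, map_one, one_mul, hγmk]
    exact MvPolynomial.eval₂Hom_C _ _ _
  · refine Algebra.TensorProduct.ext (Subsingleton.elim _ _) (IsLocalization.algHom_ext (Submonoid.powers (algebraMap R T g)) ?_)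
    refine AlgHom.ext fun t => ?_
    obtain ⟨x, rfl⟩ := Ideal.Quotient.mk_surjective t
    show α (β ((1 : k) ⊗ₜ algebraMap T Tg (Ideal.Quotient.mk _ x))) =
      (1 : k) ⊗ₜ algebraMap T Tg (Ideal.Quotient.mk _ x)
    rw [Algebra.TensorProduct.lift_tmul, map_one, one_mul, hγmk]
    induction x using MvPolynomial.induction_on with
    | C b =>
      rw [show γP (MvPolynomial.C b) = Ideal.Quotient.mk _ b from MvPolynomial.eval₂Hom_C _ _ _]
      exact hι b
    | add p q hp hq => simp only [map_add, TensorProduct.tmul_add, hp, hq]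
    | mul_X p i hp =>
      rw [map_mul, map_mul, hp, show γP (MvPolynomial.X i) = algebraMap k C (c i) from MvPolynomial.eval₂Hom_X' _ _ _,
        show α (algebraMap k C (c i)) = ιB (algebraMap k B (c i)) from (α.commutes _).trans (ιB.commutes _).symm,
        hscal, Algebra.TensorProduct.tmul_mul_tmul, one_mul, ← map_mul, ← map_mul]

end Groth.Agent.BertiniSec
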